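import Cfsg.Agent.SM.CSc.Scheme
import Cfsg.Agent.H636.SympWreath
import Cfsg.Agent.ClassicalGeometry.SympAutExists
import Cfsg.Agent.ClassicalGeometry.SympAutOddA
import Cfsg.Agent.ClassicalGeometry.PSL2Basic
import Cfsg.Agent.LieClassical.SympCount

/-!
# SM / CS (S3570), row `C` (helper53): `PSp₆(q) < Ω₁₃(q)`

* `Rf t u v` : `t` is `-1` on the hyperbolic plane `⟨u, v⟩` and `1` on its complement;
* `four_psp` : `Four q 2 z` in `PSp 3 F`;
* `boxC : BoxC`.
-/

set_option autoImplicit false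
set_option linter.unusedSectionVars false

namespace Cfsg.Agent.SM.CS

open Cfsg Matrix Subgroup Module
open Cfsg.Agent.SM.Ti (ap ap_mul ap_one ap_inv_ap ap_ap_inv ap_smul ap_add ap_ne)
open Cfsg.Agent.ClassicalGeometry.SympBasic Cfsg.Agent.ClassicalGeometry.SympAutSemi
open Cfsg.Agent.H636.SympWreath (blk blk_mul blk_one blk_injective mono)

/-- fixed vectors of an element of prime order -/
theorem fix_modEq {ι : Type} [Fintype ι] [DecidableEq ι] {K : Type} [Field K] [Fintype K] {g : GL ι K} {r : ℕ}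
    (hr : r.Prime) (hg : g ^ r = 1) {U : Submodule K (ι → K)} (hU : To g U U) :
    Fintype.card K ^ finrank K U ≡ Fintype.card K ^ finrank K ↥(U ⊓ Es g 1) [MOD r] := by
  classical
  have := Fact.mk hr
  let φ : Function.End U := fun x => ⟨ap g x, hU x x.2⟩
  have h1 : ∀ n (x : U), ((φ ^ n) x : ι → K) = ap (g ^ n) x := by
    intro n
    induction n with
    | zero => exact fun x => (ap_one _).symm
    | succ n ih => exact fun x => by rw [pow_succ, pow_succ, ap_mul]; exact ih (φ x)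
  have h2 := Equiv.Perm.card_fixedPoints_modEq (f := φ) (p := r) (n := 1) (by
    funext x
    exact Subtype.ext (by rw [h1, pow_one, hg, ap_one]; rfl))
  rw [← Nat.card_eq_fintype_card, ← Nat.card_eq_fintype_card, Module.natCard_eq_pow_finrank (K := K) (V := U)] at h2
  rw [← Nat.card_eq_fintype_card, ← Module.natCard_eq_pow_finrank (K := K) (V := ↥(U ⊓ Es g 1))]
  refine h2.trans (Nat.ModEq.refl _ |>.trans (by
    rw [Nat.card_congr (show φ.fixedPoints ≃ ↥(U ⊓ Es g 1) from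
      ⟨fun x => ⟨x.1.1, x.1.2, mem_Es_one.2 (congrArg Subtype.val x.2)⟩,
        fun x => ⟨⟨x.1, x.2.1⟩, Subtype.ext (mem_Es_one.1 x.2.2)⟩, fun _ => rfl, fun _ => rfl⟩)]))

theorem four_dvd {q r d e : ℕ} (hr : r.Prime) (h2 : r ≠ 2) (h : r ∣ q ^ 2 + 1) (hde : q ^ d ≡ q ^ e [MOD r]) :
    d % 4 = e % 4 := by
  have := Fact.mk hr
  have h0 : (q : ZMod r) ^ 2 = -1 := by
    have h1 := (ZMod.natCast_eq_zero_iff _ _).2 h
    push_cast at h1
    exact eq_neg_of_add_eq_zero_left h1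
  have h3 : (-1 : ZMod r) ≠ 1 := by
    have : Fact (2 < r) := ⟨lt_of_le_of_ne hr.two_le h2.symm⟩
    exact ZMod.neg_one_ne_one
  have h4 : orderOf (q : ZMod r) = 2 ^ (1 + 1) :=
    orderOf_eq_prime_pow (by rw [pow_one, h0]; exact h3) (by
      rw [show 2 ^ (1 + 1) = 2 * 2 from rfl, pow_mul, h0, neg_one_sq])
  have h5 := (ZMod.natCast_eq_natCast_iff _ _ _).2 hde
  push_cast at h5
  have h6 := (isOfFinOrder_iff_pow_eq_one.2 ⟨4, by decide, by
    rw [show 4 = 2 * 2 from rfl, pow_mul, h0, neg_one_sq]⟩ : IsOfFinOrder (q : ZMod r)).pow_eq_pow_iff_modEq.1 h5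
  rwa [h4] at h6

namespace C3

variable {F : Type} [Field F] [Fintype F]

local notation "V" => (Fin 3 ⊕ Fin 3 → F)
local notation "G" => Matrix.symplecticGroup (Fin 3) F
local notation "f" => sympForm 3 F
local notation "S" => SpecialLinearGroup (Fin 2) F

/-- `Sp → GL` -/
def gl : G →* GL (Fin 3 ⊕ Fin 3) F := (spToMat 3 F).toHomUnits

theorem ap_gl (t : G) (x : V) : ap (gl t) x = rho 3 F t x := rfl

theorem ext_rho {t t' : G} (h : ∀ x, rho 3 F t x = rho 3 F t' x) : t = t' := rho_injective (Equiv.ext h)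

theorem f_self (x : V) : f x x = 0 := sympBilin_isAlt x

/-- `t` is `-1` on the hyperbolic plane `⟨u, v⟩` and `1` on its complement -/
structure Rf (t : G) (u v : V) : Prop where
  one : f u v = 1
  eq : ∀ x, rho 3 F t x = x - (2 : F) • (f x v • u - f x u • v)

theorem f_comb {u v : V} (h : f u v = 1) (a b c d : F) : f (a • u + b • v) (c • u + d • v) = a * d - b * c := by
  simp only [sympForm_add_left, sympForm_add_right, sympForm_smul_left, sympForm_smul_right, f_self, h,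
    sympForm_swap v u]
  ring

theorem Rf.change {t : G} {u v : V} (h : Rf t u v) {a b c d : F} (e : a * d - b * c = 1) :
    Rf t (a • u + b • v) (c • u + d • v) where
  one := by rw [f_comb h.one, e]
  eq x := by
    rw [h.eq]
    ext i
    simp only [sympForm_add_right, sympForm_smul_right, Pi.add_apply, Pi.sub_apply, Pi.smul_apply, smul_eq_mul]
    linear_combination (2 * (f x v * u i - f x u * v i)) * e

theorem Rf.uniq {t t' : G} {u v : V} (h : Rf t u v) (h' : Rf t' u v) : t = t' :=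
  ext_rho fun x => (h.eq x).trans (h'.eq x).symm

theorem Rf.mem {t : G} {u v : V} (h : Rf t u v) (h2 : (2 : F) ≠ 0) {x : V} :
    x ∈ Es (gl t) (-1) ↔ x = f x v • u + (-f x u) • v := by
  rw [mem_Es_neg, ap_gl, h.eq, sub_eq_iff_eq_add', ← sub_eq_add_neg, eq_sub_iff_add_eq, ← two_smul F x, neg_smul,
    ← sub_eq_add_neg]
  exact (smul_right_injective _ h2).eq_iff

theorem Rf.comb {t : G} {u v : V} (h : Rf t u v) (h2 : (2 : F) ≠ 0) (a b : F) : a • u + b • v ∈ Es (gl t) (-1) := by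
  rw [h.mem h2]
  simp only [sympForm_add_left, sympForm_smul_left, f_self, h.one, sympForm_swap v u]
  simp

theorem comb_inj {u v : V} (h : f u v = 1) {a b c d : F} (e : a • u + b • v = c • u + d • v) : a = c ∧ b = d := by
  have h1 := f_comb h a b 0 1
  have h2 := f_comb h a b 1 0
  rw [e, f_comb h] at h1 h2
  exact ⟨by linear_combination -h1, by linear_combination h2⟩

theorem Rf.dim {t : G} {u v : V} (h : Rf t u v) (h2 : (2 : F) ≠ 0) : finrank F (Es (gl t) (-1)) = 2 := by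
  let L : (F × F) →ₗ[F] Es (gl t) (-1) :=
    ((LinearMap.toSpanSingleton F V u).coprod (LinearMap.toSpanSingleton F V v)).codRestrict _ fun x => h.comb h2 x.1 x.2
  have e := LinearEquiv.ofBijective L ⟨fun x y e => Prod.ext (comb_inj h.one (congrArg Subtype.val e)).1
    (comb_inj h.one (congrArg Subtype.val e)).2, fun x => ⟨(f x v, -f x u), Subtype.ext ((h.mem h2).1 x.2).symm⟩⟩
  rw [← e.finrank_eq]
  simp

theorem Rf.eq_of {t t' : G} {u v u' v' : V} (h : Rf t u v) (h' : Rf t' u' v') (h2 : (2 : F) ≠ 0)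
    (e : Es (gl t') (-1) = Es (gl t) (-1)) : t' = t := by
  have h3 := (h.mem h2).1 (e ▸ h'.comb h2 1 0)
  have h4 := (h.mem h2).1 (e ▸ h'.comb h2 0 1)
  simp only [one_smul, zero_smul, add_zero, zero_add] at h3 h4
  have h5 := h'.one
  rw [h3, h4, f_comb h.one] at h5
  have h6 := h.change h5
  rw [← h3, ← h4] at h6
  exact h'.uniq h6

/-- automorphisms -/
theorem Rf.aut {t : G} {u v : V} (h : Rf t u v) (φ : MulAut (PSp 3 F)) :
    ∃ (t' : G) (u' v' : V), Rf t' u' v' ∧ φ (QuotientGroup.mk t) = QuotientGroup.mk t' := by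
  obtain ⟨g, rfl⟩ := ClassicalGeometry.SympAutExists.exists_semi (by decide) φ
    (ClassicalGeometry.SympAutOddA.recog (by decide) (Or.inl le_rfl) φ)
  obtain ⟨τ, l, hl, h1, h2, h3⟩ := g.2
  refine ⟨conjHom 3 F g t, g.1 u, l⁻¹ • g.1 v, ⟨?_, fun x => ?_⟩, Psi_mk g t⟩
  · rw [sympForm_smul_right, h3, h.one, map_one, mul_one, inv_mul_cancel₀ hl]
  · obtain ⟨x, rfl⟩ := g.1.surjective x
    rw [rho_conjHom, Equiv.Perm.mul_apply, Equiv.Perm.mul_apply, perm_inv_apply_self, h.eq, sympForm_smul_right, h3, h3,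
      show x - (2 : F) • (f x v • u - f x u • v) = x + ((-2 * f x v) • u + (2 * f x u) • v) by module, h1, h1, h2, h2]
    simp only [map_mul, map_neg, map_ofNat]
    ext i
    simp only [Pi.add_apply, Pi.sub_apply, Pi.smul_apply, smul_eq_mul]
    field_simp
    ring

/-- the number of such elements -/
theorem card_rf : {t : G | ∃ u v, Rf t u v}.ncard * (Fintype.card F * (Fintype.card F ^ 2 - 1)) ≤
    (Fintype.card F ^ 6 - 1) * Fintype.card F ^ 5 := by
  have h1 := LieClassical.SympCount.card_hypPair (sympBilin 3 F) fun x hx => eq_zero_of_forall_sympForm_right hx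
  rw [show finrank F V = 6 by simp] at h1
  rw [← h1, ← ClassicalGeometry.PSL2Basic.card_SL2, ← Nat.card_coe_set_eq, ← Nat.card_prod]
  choose u v h using fun t : {t : G | ∃ u v, Rf t u v} => t.2
  have hd : ∀ A : S, A.1 0 0 * A.1 1 1 - A.1 0 1 * A.1 1 0 = 1 := fun A => by rw [← Matrix.det_fin_two, A.2]
  refine Nat.card_le_card_of_injective (fun x => ⟨(x.2.1 0 0 • u x.1 + x.2.1 0 1 • v x.1,
    x.2.1 1 0 • u x.1 + x.2.1 1 1 • v x.1), ((h x.1).change (hd x.2)).one⟩) ?_
  rintro ⟨t, A⟩ ⟨t', A'⟩ e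
  obtain ⟨e1, e2⟩ := Prod.mk.inj (congrArg Subtype.val e)
  have h3 := (h t).change (hd A)
  dsimp only at e1 e2
  rw [e1, e2] at h3
  obtain rfl : t = t' := Subtype.ext (h3.uniq ((h t').change (hd A')))
  have h4 := comb_inj (h t).one e1
  have h5 := comb_inj (h t).one e2
  congr 1
  ext i j
  fin_cases i <;> fin_cases j
  exacts [h4.1, h4.2, h5.1, h5.2]

theorem sq_of_center {c : G} (hc : c ∈ center G) : c * c = 1 := by
  obtain ⟨a, ha⟩ := (LieClassical.SympCenter.mem_center_iff 3 c).1 hc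
  have h1 := LieClassical.SympCenter.sq_eq_one_of_smul_mem (m := 3) (by decide) (ha ▸ c.2)
  refine Subtype.ext ?_
  rw [Submonoid.coe_mul, ha, smul_mul_smul_comm, h1, one_smul, one_mul]
  rfl

/-- **an element of order `r ∣ q ^ 2 + 1` centralises only one such involution** -/
theorem Rf.eq_of_comm {t t' : G} {u v u' v' : V} (h : Rf t u v) (h' : Rf t' u' v') (h2 : (2 : F) ≠ 0) {r : ℕ}
    (hr : r.Prime) (hr2 : r ≠ 2) (hq : r ∣ Fintype.card F ^ 2 + 1) {g : PSp 3 F} (hg : orderOf g = r)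
    (e : g * QuotientGroup.mk t = QuotientGroup.mk t * g) (e' : g * QuotientGroup.mk t' = QuotientGroup.mk t' * g) :
    t' = t := by
  obtain ⟨k, hk⟩ := hr.odd_of_ne_two hr2
  obtain ⟨x, rfl, hx⟩ : ∃ x : G, QuotientGroup.mk x = g ∧ x ^ r = 1 := by
    obtain ⟨y, rfl⟩ := QuotientGroup.mk_surjective g
    have h1 : (QuotientGroup.mk (y ^ r) : PSp 3 F) = 1 := by rw [QuotientGroup.mk_pow, ← hg, pow_orderOf_eq_one]
    refine ⟨y ^ (r + 1), by rw [pow_succ, QuotientGroup.mk_mul, h1, one_mul], ?_⟩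
    rw [← pow_mul, mul_comm, pow_mul, show r + 1 = 2 * (k + 1) by omega, pow_mul, pow_two,
      sq_of_center ((QuotientGroup.eq_one_iff _).1 h1), one_pow]
  have key : ∀ {s : G} {a b : V}, Rf s a b →
      (QuotientGroup.mk x : PSp 3 F) * QuotientGroup.mk s = QuotientGroup.mk s * QuotientGroup.mk x →
      Es (gl s) (-1) ≤ Es (gl x) 1 := by
    intro s a b hs e
    have h1 : x⁻¹ * (s⁻¹ * x * s) ∈ center G := by
      rw [← QuotientGroup.eq, QuotientGroup.mk_mul, QuotientGroup.mk_mul, mul_assoc, e, QuotientGroup.mk_inv,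
        inv_mul_cancel_left]
    have h3 : (x⁻¹ * (s⁻¹ * x * s)) ^ r = 1 := by
      have h4 : (x * (x⁻¹ * (s⁻¹ * x * s))) ^ r = 1 := by
        rw [mul_inv_cancel_left, ← inv_inv s, inv_inv s⁻¹, conj_pow, hx, mul_one, mul_inv_cancel]
      rwa [Commute.mul_pow (mem_center_iff.1 h1 x), hx, one_mul] at h4
    rw [hk, pow_succ, pow_mul, pow_two, sq_of_center h1, one_pow, one_mul, inv_mul_eq_one, mul_assoc,
      eq_inv_mul_iff_mul_eq] at h3
    have h5 := four_dvd hr hr2 hq (fix_modEq hr (by rw [← map_pow, hx, map_one])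
      (to_Es (g := gl x) (s := gl s) (s' := gl s) (by rw [← map_mul, ← map_mul, h3]) (-1)))
    have h6 := Submodule.finrank_mono (inf_le_left : Es (gl s) (-1) ⊓ Es (gl x) 1 ≤ _)
    have h7 := hs.dim h2
    exact inf_eq_left.1 (Submodule.eq_of_le_of_finrank_eq inf_le_left (by omega))
  have h5 := four_dvd hr hr2 hq (fix_modEq (g := gl x) (U := ⊤) hr (by rw [← map_pow, hx, map_one]) fun _ _ => trivial)
  rw [top_inf_eq, finrank_top, show finrank F V = 6 by simp] at h5
  have h6 : finrank F (Es (gl x) 1) < finrank F V := by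
    refine Submodule.finrank_lt fun h7 => hr.one_lt.ne' ?_
    have h8 : x = 1 := ext_rho fun y => (mem_Es_one.1 (h7 ▸ Submodule.mem_top : y ∈ Es (gl x) 1)).trans (by simp)
    rw [← hg, h8, QuotientGroup.mk_one, orderOf_one]
  rw [show finrank F V = 6 by simp] at h6
  have h7 := h.dim h2
  have h8 := h'.dim h2
  have h9 := Submodule.finrank_mono (key h e)
  exact h.eq_of h' h2 ((Submodule.eq_of_le_of_finrank_eq (key h' e') (by omega)).trans
    (Submodule.eq_of_le_of_finrank_eq (key h e) (by omega)).symm)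

/-! ### the elements -/

/-- the elements of `SL₂ ≀ S₃` modulo `± 1` -/
def bk (σ : Equiv.Perm (Fin 3)) (A : Fin 3 → S) : PSp 3 F := QuotientGroup.mk (blk σ A)

theorem bk_mul (σ τ : Equiv.Perm (Fin 3)) (A B : Fin 3 → S) :
    bk σ A * bk τ B = bk (σ * τ) fun j => A (τ j) * B j := by
  rw [bk, bk, ← QuotientGroup.mk_mul, blk_mul, bk]

theorem coe_blk_neg : ((blk 1 fun _ => (-1 : S) : G) : Matrix (Fin 3 ⊕ Fin 3) (Fin 3 ⊕ Fin 3) F) = (-1 : F) • 1 := by
  ext i j
  rcases i with i | i <;> rcases j with j | j <;> simp [blk, mono, Matrix.one_apply]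

theorem bk_one : bk 1 (fun _ => (1 : S)) = 1 := congrArg QuotientGroup.mk blk_one

theorem bk_neg_one : bk 1 (fun _ => (-1 : S)) = 1 :=
  (QuotientGroup.eq_one_iff _).2 ((LieClassical.SympCenter.mem_center_iff 3 _).2 ⟨-1, coe_blk_neg⟩)

theorem bk_eq {σ τ : Equiv.Perm (Fin 3)} {A B : Fin 3 → S} (e : σ = τ) (h : (∀ j, A j = B j) ∨ ∀ j, A j = -B j) :
    bk σ A = bk τ B := by
  subst e
  rcases h with h | h
  · rw [funext h]
  · rw [← mul_one (bk σ B), ← bk_neg_one, bk_mul, funext h]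
    simp

theorem rf_z : Rf (blk 1 ![-1, 1, 1] : G) (Pi.single (Sum.inr 0) 1) (Pi.single (Sum.inl 0) 1) where
  one := by rw [sympForm_single_inr_left, Pi.single_eq_same]
  eq x := by
    rw [sympForm_single_inl_right, sympForm_single_inr_right, rho_apply]
    ext i
    rcases i with i | i <;> fin_cases i <;>
      simp [blk, mono, Matrix.mulVec, dotProduct, Fintype.sum_sum_type, Fin.sum_univ_three] <;> ring

theorem exists_ij : ∃ i j : S, i * i = -1 ∧ j * i = -(i * j) := by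
  obtain ⟨p, hp⟩ := CharP.exists F
  have : NeZero p := ⟨(CharP.char_is_prime F p).ne_zero⟩
  obtain ⟨a, b, hab⟩ := CharP.sq_add_sq F p (-1)
  push_cast at hab
  refine ⟨⟨!![0, -1; 1, 0], by simp [Matrix.det_fin_two]⟩, ⟨!![a, b; b, -a], by
    rw [Matrix.det_fin_two_of]; linear_combination -hab⟩, Subtype.ext ?_, Subtype.ext ?_⟩
  · show (!![0, -1; 1, 0] * !![0, -1; 1, 0] : Matrix (Fin 2) (Fin 2) F) = -1
    ext i j
    fin_cases i <;> fin_cases j <;> simp
  · show (!![(a : F), b; b, -a] * !![0, -1; 1, 0] : Matrix (Fin 2) (Fin 2) F) = -(!![0, -1; 1, 0] * !![(a : F), b; b, -a])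
    ext i j
    fin_cases i <;> fin_cases j <;> simp

theorem bk_ne (h2 : (2 : F) ≠ 0) : bk 1 ![1, 1, (-1 : S)] ≠ bk 1 ![-1, 1, 1] := by
  intro h
  obtain ⟨a, ha⟩ := (LieClassical.SympCenter.mem_center_iff 3 _).1 ((QuotientGroup.eq_one_iff _).1
    (show bk 1 ![-1, 1, (-1 : S)] = 1 by
      rw [← (show bk 1 ![-1, 1, (1 : S)] * bk 1 ![-1, 1, 1] = 1 by
        rw [bk_mul, ← bk_one]
        exact bk_eq (mul_one _) (Or.inl fun j => by fin_cases j <;> simp))]
      nth_rewrite 1 [← h]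
      rw [bk_mul]
      exact bk_eq (mul_one _).symm (Or.inl fun j => by fin_cases j <;> simp)))
  have h3 := congrFun (congrFun ha (Sum.inl 0)) (Sum.inl 0)
  have h4 := congrFun (congrFun ha (Sum.inl 1)) (Sum.inl 1)
  simp [blk, mono] at h3 h4
  exact h2 (by linear_combination h4 - h3)

theorem xs_z {i j : S} (hi : i * i = -1) (hji : j * i = -(i * j)) :
    Xs 2 (bk 1 ![-1, 1, 1]) ![bk 1 ![1, 1, -1], bk 1 ![i, i, i]] ![bk (Equiv.swap 1 2) ![1, 1, 1], bk 1 ![j, 1, 1]]
      (bk 1 ![j, j, j]) (bk 1 ![i, 1, 1]) := by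
  have s0 : Equiv.swap (1 : Fin 3) 2 0 = 0 := by decide
  constructor
  all_goals simp only [Fin.forall_fin_two, Matrix.cons_val_zero, Matrix.cons_val_one, bk_mul, ← bk_one, ne_eq,
    not_true_eq_false, IsEmpty.forall_iff, true_and, and_true, zero_ne_one, one_ne_zero, not_false_eq_true,
    forall_true_left]
  all_goals repeat' apply And.intro
  all_goals first
    | (refine bk_eq (by simp) (Or.inl fun k => ?_); fin_cases k <;> (simp [hi, hji, s0]; done))
    | (refine bk_eq (by simp) (Or.inr fun k => ?_); fin_cases k <;> simp [hi, hji, s0])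

/-- **the data for `PSp₆(q)`** -/
theorem four_psp (hq : Odd (Fintype.card F)) : Four (Fintype.card F) 2 (bk 1 ![-1, 1, (1 : S)]) := by
  have h2 : (2 : F) ≠ 0 := Ring.two_ne_zero fun e => by
    have h1 := FiniteField.even_card_of_char_two e
    have h2 := Nat.odd_iff.1 hq
    omega
  obtain ⟨i, j, hi, hji⟩ := exists_ij (F := F)
  have s0 : Equiv.swap (1 : Fin 3) 2 0 = 0 := by decide
  have s1 : Equiv.swap (0 : Fin 3) 2 1 = 1 := by decide
  refine ⟨?_, ⟨bk 1 ![1, 1, -1], bk (Equiv.swap 1 2) ![1, 1, 1], bk (Equiv.swap 0 2) ![1, 1, 1], bk 1 ![1, 1, i],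
    bk_ne h2, ?_⟩, ⟨2, _, _, _, _, rfl, xs_z hi hji⟩, ?_, ?_⟩
  · rw [bk_mul, ← bk_one]
    exact bk_eq (mul_one _) (Or.inl fun j => by fin_cases j <;> simp)
  · simp only [bk_mul]
    refine ⟨?_, ?_, ?_, ?_, ?_, ?_⟩
    all_goals first
      | (refine bk_eq (by simp) (Or.inl fun k => ?_); fin_cases k <;> (simp [hi, s0, s1]; done))
      | (refine bk_eq (by simp) (Or.inr fun k => ?_); fin_cases k <;> simp [s0])
  · have h1 : {x | ∃ φ : MulAut (PSp 3 F), φ (bk 1 ![-1, 1, (1 : S)]) = x}.ncard ≤ {t : G | ∃ u v, Rf t u v}.ncard := by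
      refine le_trans (Set.ncard_le_ncard (t := QuotientGroup.mk '' {t : G | ∃ u v, Rf t u v}) ?_) Set.ncard_image_le
      rintro _ ⟨φ, rfl⟩
      obtain ⟨t, u, v, h, e⟩ := rf_z.aut φ
      exact ⟨t, ⟨u, v, h⟩, e.symm⟩
    refine (Nat.mul_le_mul_right _ h1).trans (Nat.le_of_mul_le_mul_left ?_ (Fintype.card_pos (α := F)))
    refine le_of_eq_of_le (by ring) (card_rf.trans (le_of_eq (by ring)))
  · have h3 : 1 < Fintype.card F := Fintype.one_lt_card
    obtain ⟨k, hk⟩ := hq
    have h4 : Fintype.card F ^ 2 + 1 = 2 * (2 * (k * k + k) + 1) := by rw [hk]; ring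
    obtain ⟨r, hr, h5⟩ := Nat.exists_prime_and_dvd (n := 2 * (k * k + k) + 1) (by
      have : 0 < k := by omega
      omega)
    have h6 : r ≠ 2 := by
      rintro rfl
      omega
    have h7 : r ∣ Fintype.card F ^ 2 + 1 := h4 ▸ h5.mul_left 2
    refine ⟨r, hr, h6, h7, ?_, fun g φ hg e e' => ?_⟩
    · have h8 := card_eq_card_quotient_mul_card_subgroup (center G)
      rw [LieClassical.SympCount.card_symplecticGroup, LieClassical.SympCenter.card_center (by decide)] at h8
      have h9 : r ∣ Nat.card (PSp 3 F) * Nat.gcd 2 (Fintype.card F - 1) := by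
        rw [← h8]
        refine Dvd.dvd.mul_left (Dvd.dvd.trans ?_ (Finset.dvd_prod_of_mem _ (a := 1) (by decide))) _
        refine h7.trans ?_
        have := Nat.sq_sub_sq (Fintype.card F ^ 2) 1
        rw [← pow_mul, one_pow] at this
        exact this ▸ Dvd.intro _ rfl
      exact (hr.dvd_mul.1 h9).resolve_right fun h10 =>
        h6 ((Nat.prime_dvd_prime_iff_eq hr Nat.prime_two).1 (h10.trans (Nat.gcd_dvd_left _ _)))
    · obtain ⟨t, u, v, h, e1⟩ := rf_z.aut φ
      rw [bk] at e e' ⊢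
      rw [e1] at e' ⊢
      rw [rf_z.eq_of_comm h h2 hr h6 h7 hg e e']

end C3

/-- **[CS-C]** -/
theorem boxC : BoxC := by
  rintro n K _ _ k q m B Sg G X Y P h ⟨rfl, rfl, F, _, _, rfl, ⟨e⟩⟩
  obtain ⟨Q, v, -, hv⟩ := h.sph.pt
  exact inv_of_four (k := 2) h le_rfl e (C3.four_psp hv.odd)

end Cfsg.Agent.SM.CS
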