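import Cfsg.Agent.SM.Ti.Defs
import Cfsg.Agent.H925.OrthBasic

/-!
# SM / CS (S3570), common scheme, part 1 (helper53): counts and eigenspaces

* `relIndex_mul_le`, `j_one`, `dvd_card_inf` : indices;
* `Es g c` : eigenspace; `split`, `halve`, `even_of_anti`; `Xs`, `Xs.dvd` : `2 ^ (a + 1)` divides `dim V₋(z)`;
* `cnt_crude`, `cnt_le` : the number of vectors of a given non-zero norm in a subspace.
-/

set_option autoImplicit false
set_option linter.unusedSectionVars false

namespace Cfsg.Agent.SM.CS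

open Matrix Subgroup Module
open Cfsg.Agent.SM.Ti (ap ap_mul ap_one ap_inv_ap ap_ap_inv ap_smul ap_add ap_ne)

/-! ### indices -/

section idx

variable {Γ : Type*} [Group Γ] [Finite Γ]

theorem relIndex_mul_le {α β : Type*} [Finite β] (A Y : Subgroup Γ) (f : Γ → β → α) {S : Set α} (hS : S.Finite)
    (hf : ∀ y ∈ Y, ∀ b, f y b ∈ S) (h : ∀ y ∈ Y, ∀ y' ∈ Y, ∀ b b', f y b = f y' b' → y⁻¹ * y' ∈ A)
    (h' : ∀ y ∈ Y, Function.Injective (f y)) : A.relIndex Y * Nat.card β ≤ S.ncard := by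
  have := hS.to_subtype
  rw [relIndex, index, ← Nat.card_prod, ← Nat.card_coe_set_eq]
  refine Nat.card_le_card_of_injective (fun x => (⟨f (x.1.out : Y) x.2, hf _ x.1.out.2 _⟩ : S)) ?_
  rintro ⟨c, b⟩ ⟨c', b'⟩ e
  have e1 : f (c.out : Y) b = f (c'.out : Y) b' := congrArg Subtype.val e
  have e2 : c = c' := by
    rw [← c.out_eq, ← c'.out_eq]
    exact QuotientGroup.eq.2 (mem_subgroupOf.2 (h _ c.out.2 _ c'.out.2 _ _ e1))
  subst e2
  rw [h' _ c.out.2 e1]

theorem relIndex_le {α : Type*} (A Y : Subgroup Γ) (f : Γ → α) {S : Set α} (hS : S.Finite)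
    (hf : ∀ y ∈ Y, f y ∈ S) (h : ∀ y ∈ Y, ∀ y' ∈ Y, f y = f y' → y⁻¹ * y' ∈ A) : A.relIndex Y ≤ S.ncard := by
  have := relIndex_mul_le (β := Unit) A Y (fun y _ => f y) hS (fun y hy _ => hf y hy)
    (fun y hy y' hy' _ _ e => h y hy y' hy' e) fun _ _ _ _ _ => rfl
  simpa using this

/-- **`j = 1`** -/
theorem j_one {X Y D : Subgroup Γ} (hD : D ≤ Y) (h : X.relIndex D * D.relIndex Y < 2 * X.relIndex Y) : X ⊓ Y ≤ D := by
  have h1 : (X ⊓ D).relIndex D * D.relIndex Y = (X ⊓ D).relIndex Y := relIndex_mul_relIndex _ _ _ inf_le_right hD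
  have h2 : (X ⊓ D).relIndex (X ⊓ Y) * (X ⊓ Y).relIndex Y = (X ⊓ D).relIndex Y :=
    relIndex_mul_relIndex _ _ _ (inf_le_inf_left _ hD) inf_le_right
  rw [inf_relIndex_right] at h1 h2
  rw [h1, ← h2] at h
  have h3 := Nat.lt_of_mul_lt_mul_right h
  have h4 : (X ⊓ D).relIndex (X ⊓ Y) ≠ 0 := index_ne_zero_of_finite
  exact (relIndex_eq_one.1 (by omega : (X ⊓ D).relIndex (X ⊓ Y) = 1)).trans inf_le_right

theorem dvd_card_inf {X Y P : Subgroup Γ} (hP : P ≤ Y) (hn : ∀ y ∈ Y, ∀ x ∈ P, y * x * y⁻¹ ∈ P) {r : ℕ} (hr : r.Prime)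
    (h1 : r ∣ Nat.card P) (h2 : ¬ r ∣ X.relIndex Y) : r ∣ Nat.card (X.subgroupOf P) := by
  have hN : (P.subgroupOf Y).Normal := ⟨fun x hx y => hn y y.2 x hx⟩
  obtain ⟨t, ht⟩ := relIndex_dvd_index_of_normal (P.subgroupOf Y) (X.subgroupOf Y)
  have e1 : (P.subgroupOf Y).relIndex (X.subgroupOf Y) = P.relIndex (X ⊓ Y) := by
    rw [← inf_subgroupOf_right X Y, relIndex_subgroupOf inf_le_right]
  rw [e1] at ht
  change P.relIndex Y = _ at ht
  have h3 : (X ⊓ P).relIndex P * P.relIndex Y = (X ⊓ P).relIndex Y := relIndex_mul_relIndex _ _ _ inf_le_right hP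
  have h4 : (X ⊓ P).relIndex (X ⊓ Y) * (X ⊓ Y).relIndex Y = (X ⊓ P).relIndex Y :=
    relIndex_mul_relIndex _ _ _ (inf_le_inf_left _ hP) inf_le_right
  have e2 : (X ⊓ P).relIndex (X ⊓ Y) = P.relIndex (X ⊓ Y) := by
    rw [← inf_relIndex_right (X ⊓ P), ← inf_relIndex_right P]
    congr 1
    ext x
    simp only [mem_inf]
    tauto
  rw [inf_relIndex_right] at h3 h4
  rw [e2, ← h3, ht, mul_left_comm] at h4
  have h5 := Nat.eq_of_mul_eq_mul_left (Nat.pos_of_ne_zero (index_ne_zero_of_finite)) h4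
  have h6 := (X.subgroupOf P).card_mul_index
  rw [← h6] at h1
  refine (hr.dvd_mul.1 h1).resolve_right fun h7 => h2 ?_
  rw [h5]
  exact Dvd.dvd.mul_right h7 _

end idx

/-! ### eigenspaces -/

section eig

variable {ι : Type} [Fintype ι] [DecidableEq ι] {K : Type} [Field K]

/-- the eigenspace -/
def Es (g : GL ι K) (c : K) : Submodule K (ι → K) := Module.End.eigenspace (toLin' (g : Matrix ι ι K)) c

theorem mem_Es {g : GL ι K} {c : K} {v : ι → K} : v ∈ Es g c ↔ ap g v = c • v := by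
  rw [Es, Module.End.mem_eigenspace_iff, toLin'_apply]

theorem mem_Es_one {g : GL ι K} {v : ι → K} : v ∈ Es g 1 ↔ ap g v = v := by rw [mem_Es, one_smul]

theorem mem_Es_neg {g : GL ι K} {v : ι → K} : v ∈ Es g (-1) ↔ ap g v = -v := by rw [mem_Es, neg_one_smul]

theorem ap_neg (g : GL ι K) (v : ι → K) : ap g (-v) = -ap g v := mulVec_neg _ _

theorem ap_sub (g : GL ι K) (u v : ι → K) : ap g (u - v) = ap g u - ap g v := mulVec_sub _ _ _

theorem ap_inj (g : GL ι K) : Function.Injective (ap g) := fun x y e => by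
  rw [← ap_inv_ap g x, e, ap_inv_ap]

theorem eq_of_ap {g h : GL ι K} (e : ∀ v, ap g v = ap h v) : g = h :=
  Units.ext (Matrix.toLin'.injective (LinearMap.ext fun v => by rw [toLin'_apply, toLin'_apply]; exact e v))

/-- `g` maps `U` into `U'` -/
def To (g : GL ι K) (U U' : Submodule K (ι → K)) : Prop := ∀ u ∈ U, ap g u ∈ U'

theorem To.le {g : GL ι K} {U U' : Submodule K (ι → K)} (h : To g U U') : finrank K U ≤ finrank K U' :=
  LinearMap.finrank_le_finrank_of_injective (f := (toLin' (g : Matrix ι ι K)).restrict h) fun _ _ e =>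
    Subtype.ext (ap_inj g (congrArg Subtype.val e))

theorem To.inf {g : GL ι K} {U U' W W' : Submodule K (ι → K)} (h : To g U U') (h' : To g W W') :
    To g (U ⊓ W) (U' ⊓ W') := fun u hu => ⟨h u hu.1, h' u hu.2⟩

theorem to_Es {g s s' : GL ι K} (h : g * s = s' * g) (c : K) : To g (Es s c) (Es s' c) := fun u hu => by
  rw [mem_Es] at hu ⊢
  rw [← ap_mul, ← h, ap_mul, hu, ap_smul]

theorem finrank_Es_eq {g s s' : GL ι K} (h : g * s = s' * g) (c : K) : finrank K (Es s c) = finrank K (Es s' c) :=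
  le_antisymm (to_Es h c).le
    (to_Es (g := g⁻¹) (by rw [inv_mul_eq_iff_eq_mul, ← mul_assoc, h, mul_inv_cancel_right]) c).le

/-- the two eigenspaces of an involution -/
theorem split (h2 : (2 : K) ≠ 0) {s : GL ι K} {U : Submodule K (ι → K)} (hs : To s U U) (hss : s * s = 1) :
    finrank K U = finrank K ↥(U ⊓ Es s 1) + finrank K ↥(U ⊓ Es s (-1)) := by
  rw [← Submodule.finrank_sup_add_finrank_inf_eq]
  have h1 : (U ⊓ Es s 1) ⊔ (U ⊓ Es s (-1)) = U := by
    refine le_antisymm (sup_le inf_le_left inf_le_left) fun u hu => ?_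
    have e : u = (2 : K)⁻¹ • (u + ap s u) + (2 : K)⁻¹ • (u - ap s u) := by
      rw [← smul_add, add_add_sub_cancel, ← two_smul K u, inv_smul_smul₀ h2]
    rw [e]
    refine Submodule.add_mem_sup (Submodule.smul_mem _ _ ⟨U.add_mem hu (hs u hu), mem_Es_one.2 ?_⟩)
      (Submodule.smul_mem _ _ ⟨U.sub_mem hu (hs u hu), mem_Es_neg.2 ?_⟩)
    · rw [ap_add, ← ap_mul, hss, ap_one, add_comm]
    · rw [ap_sub, ← ap_mul, hss, ap_one, neg_sub]
  have h3 : (U ⊓ Es s 1) ⊓ (U ⊓ Es s (-1)) = ⊥ := by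
    refine eq_bot_iff.2 fun u hu => ?_
    have e : u = -u := (mem_Es_one.1 hu.1.2).symm.trans (mem_Es_neg.1 hu.2.2)
    have e' : (2 : K) • u = 0 := by rw [two_smul]; exact eq_neg_iff_add_eq_zero.1 e
    exact (smul_eq_zero.1 e').resolve_left h2
  rw [h1, h3, finrank_bot, add_zero]

theorem split_top (h2 : (2 : K) ≠ 0) {s : GL ι K} (hss : s * s = 1) :
    finrank K (Es s 1) + finrank K (Es s (-1)) = Fintype.card ι := by
  have h := split h2 (s := s) (U := ⊤) (fun _ _ => trivial) hss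
  rw [top_inf_eq, top_inf_eq, finrank_top, finrank_fintype_fun_eq_card] at h
  exact h.symm

/-- **halving** -/
theorem halve (h2 : (2 : K) ≠ 0) {z s t : GL ι K} {U : Submodule K (ι → K)} (hU : U ≤ Es z (-1)) (hs : To s U U)
    (ht : To t U U) (hss : s * s = 1) (hts : t * s = z * (s * t)) : finrank K U = 2 * finrank K ↥(U ⊓ Es s 1) := by
  have h0 : ∀ u ∈ U, ap s (ap t u) = -ap t (ap s u) := fun u hu => by
    have e := mem_Es_neg.1 (hU (hs _ (ht u hu)))
    rw [← ap_mul t, hts, ap_mul, ap_mul, e, neg_neg]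
  have h1 : To t (U ⊓ Es s 1) (U ⊓ Es s (-1)) := fun u hu =>
    ⟨ht u hu.1, mem_Es_neg.2 (by rw [h0 u hu.1, mem_Es_one.1 hu.2])⟩
  have h3 : To t (U ⊓ Es s (-1)) (U ⊓ Es s 1) := fun u hu =>
    ⟨ht u hu.1, mem_Es_one.2 (by rw [h0 u hu.1, mem_Es_neg.1 hu.2, ap_neg, neg_neg])⟩
  have := h1.le
  have := h3.le
  have := split h2 hs hss
  omega

theorem even_of_anti (h2 : (2 : K) ≠ 0) {z b c : GL ι K} {U : Submodule K (ι → K)} (hU : U ≤ Es z (-1)) (hb : To b U U)
    (hc : To c U U) (h : b * c = z * (c * b)) : Even (finrank K U) := by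
  let b' : U →ₗ[K] U := (toLin' (b : Matrix ι ι K)).restrict hb
  let c' : U →ₗ[K] U := (toLin' (c : Matrix ι ι K)).restrict hc
  have e : b' * c' = (-1 : K) • (c' * b') := by
    refine LinearMap.ext fun u => Subtype.ext ?_
    show ap b (ap c u) = (-1 : K) • ap c (ap b u)
    rw [← ap_mul, h, ap_mul, ap_mul]
    exact mem_Es.1 (hU (hc _ (hb u u.2)))
  have u1 : ∀ {g : GL ι K} (hg : To g U U), LinearMap.det ((toLin' (g : Matrix ι ι K)).restrict hg : U →ₗ[K] U) ≠ 0 :=
    fun {g} hg => (LinearMap.isUnit_det _ ((LinearMap.isUnit_iff_ker_eq_bot _).2 (LinearMap.ker_eq_bot.2 fun _ _ e =>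
      Subtype.ext (ap_inj g (congrArg Subtype.val e))))).ne_zero
  have e1 := congrArg LinearMap.det e
  rw [LinearMap.det_smul, map_mul, map_mul, mul_comm (LinearMap.det c')] at e1
  have e2 : (-1 : K) ^ finrank K U = 1 := ((mul_left_eq_self₀.1 e1.symm).resolve_right (mul_ne_zero (u1 hb) (u1 hc)))
  refine (neg_one_pow_eq_one_iff_even fun e3 => h2 ?_).1 e2
  linear_combination -e3

end eig

/-- `z` is the commutator of `a + 1` hyperbolic pairs `(s i, t i)`, `(b, c)`; the `s i` are commuting involutions -/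
structure Xs {T : Type*} [Group T] (a : ℕ) (z : T) (s t : Fin a → T) (b c : T) : Prop where
  zs : ∀ i, s i * z = z * s i
  zt : ∀ i, t i * z = z * t i
  zb : b * z = z * b
  zc : c * z = z * c
  sq : ∀ i, s i * s i = 1
  ss : ∀ i j, s i * s j = s j * s i
  ts : ∀ i, t i * s i = z * (s i * t i)
  ts' : ∀ i j, i ≠ j → t i * s j = s j * t i
  bs : ∀ i, b * s i = s i * b
  cs : ∀ i, c * s i = s i * c
  bc : b * c = z * (c * b)

theorem Xs.map {T T' : Type*} [Group T] [Group T'] {a : ℕ} {z : T} {s t : Fin a → T} {b c : T} (h : Xs a z s t b c)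
    (f : T →* T') : Xs a (f z) (fun i => f (s i)) (fun i => f (t i)) (f b) (f c) where
  zs i := by simp only [← map_mul, h.zs]
  zt i := by simp only [← map_mul, h.zt]
  zb := by simp only [← map_mul, h.zb]
  zc := by simp only [← map_mul, h.zc]
  sq i := by simp only [← map_mul, h.sq, map_one]
  ss i j := by simp only [← map_mul, h.ss i j]
  ts i := by simp only [← map_mul, h.ts]
  ts' i j e := by simp only [← map_mul, h.ts' i j e]
  bs i := by simp only [← map_mul, h.bs]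
  cs i := by simp only [← map_mul, h.cs]
  bc := by simp only [← map_mul, h.bc]

section xs

variable {ι : Type} [Fintype ι] [DecidableEq ι] {K : Type} [Field K]

theorem Xs.dvd' (h2 : (2 : K) ≠ 0) {z b c : GL ι K} : ∀ (a : ℕ) (s t : Fin a → GL ι K), Xs a z s t b c →
    ∀ U : Submodule K (ι → K), U ≤ Es z (-1) → (∀ i, To (s i) U U) → (∀ i, To (t i) U U) → To b U U → To c U U →
    2 ^ (a + 1) ∣ finrank K U := by
  intro a
  induction a with
  | zero => exact fun s t h U hU _ _ hb hc => by simpa using (even_of_anti h2 hU hb hc h.bc).two_dvd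
  | succ a ih =>
    intro s t h U hU hs ht hb hc
    rw [halve h2 hU (hs 0) (ht 0) (h.sq 0) (h.ts 0), pow_succ']
    refine Nat.mul_dvd_mul_left _ (ih (fun i => s i.succ) (fun i => t i.succ)
      ⟨fun _ => h.zs _, fun _ => h.zt _, h.zb, h.zc, fun _ => h.sq _, fun _ _ => h.ss _ _, fun _ => h.ts _,
        fun i j e => h.ts' _ _ fun e' => e (Fin.succ_injective _ e'), fun _ => h.bs _, fun _ => h.cs _, h.bc⟩ _
      (inf_le_left.trans hU) (fun i => (hs _).inf (to_Es (h.ss _ _) _))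
      (fun i => (ht _).inf (to_Es (h.ts' _ _ (Fin.succ_ne_zero i)) _)) (hb.inf (to_Es (h.bs _) _))
      (hc.inf (to_Es (h.cs _) _)))

/-- **`2 ^ (a + 1)` divides the dimension of the `-1`-eigenspace** -/
theorem Xs.dvd (h2 : (2 : K) ≠ 0) {z b c : GL ι K} {a : ℕ} {s t : Fin a → GL ι K} (h : Xs a z s t b c) :
    2 ^ (a + 1) ∣ finrank K (Es z (-1)) :=
  Xs.dvd' h2 a s t h _ le_rfl (fun i => to_Es (h.zs i) _) (fun i => to_Es (h.zt i) _) (to_Es h.zb _) (to_Es h.zc _)

end xs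

/-! ### vectors of a given norm -/

section cnt

open QuadraticMap

variable {K V : Type*} [Field K] [Finite K] [AddCommGroup V] [Module K V] [Finite V] (Q : QuadraticForm K V)

theorem exists_sg (K : Type*) [Field K] [Finite K] : ∃ sg : K → Bool, ∀ x y, y = -x → sg x = sg y → x = y := by
  obtain ⟨n, ⟨e⟩⟩ := Finite.exists_equiv_fin K
  refine ⟨fun x => decide (e x ≤ e (-x)), fun x y h1 h => ?_⟩
  subst h1
  simp only [neg_neg, decide_eq_decide] at h
  rcases le_total (e x) (e (-x)) with h3 | h3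
  · exact e.injective (le_antisymm h3 (h.1 h3))
  · exact e.injective (le_antisymm (h.2 h3) h3)

theorem map_add_smul (v e : V) (t : K) : Q (v + t • e) = Q v + t * polar Q v e + t * t * Q e := by
  rw [QuadraticMap.map_add Q, QuadraticMap.map_smul, polar_smul_right, smul_eq_mul, smul_eq_mul]
  ring

theorem cnt_crude (h2 : (2 : K) ≠ 0) (U : Submodule K V) {a : K} (ha : a ≠ 0) :
    {v | v ∈ U ∧ Q v = a}.ncard * Nat.card K ≤ 2 * Nat.card U := by
  rcases {v | v ∈ U ∧ Q v = a}.eq_empty_or_nonempty with h | ⟨e, he, hQ⟩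
  · rw [h]; simp
  obtain ⟨sg, hsg⟩ := exists_sg K
  rw [← Nat.card_coe_set_eq, ← Nat.card_prod, mul_comm, show 2 = Nat.card Bool by simp, ← Nat.card_prod]
  refine Nat.card_le_card_of_injective
    (fun x => ((⟨x.1.1 + x.2 • e, U.add_mem x.1.2.1 (U.smul_mem _ he)⟩ : U), sg (polar Q x.1.1 e))) ?_
  rintro ⟨⟨v, hv, hv'⟩, x⟩ ⟨⟨w, hw, hw'⟩, y⟩ h
  have h1 : v + x • e = w + y • e := congrArg Subtype.val (congrArg Prod.fst h)
  have h3 : sg (polar Q v e) = sg (polar Q w e) := congrArg Prod.snd h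
  have h4 : w = v + (x - y) • e := by rw [sub_smul, ← add_sub_assoc, h1, add_sub_cancel_right]
  have h5 : x - y = 0 := by
    by_contra h0
    have h6 := map_add_smul Q v e (x - y)
    rw [← h4, hv', hw', hQ] at h6
    have h7 : polar Q v e + (x - y) * a = 0 := mul_left_cancel₀ h0 (by linear_combination -h6)
    have h8 : polar Q w e = polar Q v e + 2 * ((x - y) * a) := by
      rw [h4, polar_add_left, polar_smul_left, polar_self, hQ, smul_eq_mul, two_nsmul]
      ring
    have h9 := hsg _ _ (by linear_combination h8 + 2 * h7) h3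
    exact mul_ne_zero h2 (mul_ne_zero h0 ha) (by linear_combination -h8 - h9)
  rw [h5, zero_smul, add_zero] at h4
  subst h4
  rw [sub_eq_zero.1 h5]

/-- **at most `q ^ (d - 1) + q ^ (d - 2)` vectors of norm `a`** -/
theorem cnt_le (h2 : (2 : K) ≠ 0) (U : Submodule K V) {a : K} (ha : a ≠ 0) {e w : V} (he : e ∈ U) (hQ : Q e = 0)
    (hw : w ∈ U) (hwe : polar Q w e ≠ 0) :
    {v | v ∈ U ∧ Q v = a}.ncard * Nat.card K ^ 2 ≤ Nat.card K ^ finrank K U * (Nat.card K + 1) := by
  have : Module.Finite K V := Module.Finite.of_finite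
  let U' : Submodule K V := U ⊓ LinearMap.ker (Q.polarBilin.flip e)
  have hU' : ∀ v, v ∈ U' ↔ v ∈ U ∧ polar Q v e = 0 := fun v => Iff.rfl
  have h1 := cnt_crude Q h2 U' ha
  have hee : polar Q e e = 0 := by rw [polar_self, hQ, smul_zero]
  have h3 : {v | (v ∈ U ∧ Q v = a) ∧ polar Q v e ≠ 0}.ncard * Nat.card K ≤ ((U : Set V) \ U').ncard := by
    rw [← Nat.card_coe_set_eq, ← Nat.card_prod, ← Nat.card_coe_set_eq]
    refine Nat.card_le_card_of_injective (fun x => ⟨x.1.1 + x.2 • e, U.add_mem x.1.2.1.1 (U.smul_mem _ he), fun h => ?_⟩) ?_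
    · have h4 := ((hU' _).1 h).2
      rw [polar_add_left, polar_smul_left, hee, smul_zero, add_zero] at h4
      exact x.1.2.2 h4
    · rintro ⟨⟨v, ⟨hv, hv'⟩, hv0⟩, x⟩ ⟨⟨w, ⟨hw, hw'⟩, hw0⟩, y⟩ h
      have h1 : v + x • e = w + y • e := congrArg Subtype.val h
      have h4 : w = v + (x - y) • e := by rw [sub_smul, ← add_sub_assoc, h1, add_sub_cancel_right]
      have h6 := map_add_smul Q v e (x - y)
      rw [← h4, hv', hw', hQ] at h6
      have h5 : x - y = 0 := (mul_eq_zero.1 (by linear_combination -h6)).resolve_right hv0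
      rw [h5, zero_smul, add_zero] at h4
      subst h4
      rw [sub_eq_zero.1 h5]
  have h4 : ((U : Set V) \ U').ncard + Nat.card U' = Nat.card U := by
    rw [← SetLike.coe_sort_coe, ← SetLike.coe_sort_coe U, Nat.card_coe_set_eq, Nat.card_coe_set_eq]
    exact Set.ncard_sdiff_add_ncard_of_subset (fun v hv => hv.1)
  have h5 : {v | v ∈ U ∧ Q v = a}.ncard ≤
      {v | (v ∈ U ∧ Q v = a) ∧ polar Q v e ≠ 0}.ncard + {v | v ∈ U' ∧ Q v = a}.ncard := by
    refine le_trans (Set.ncard_le_ncard (fun v hv => ?_)) (Set.ncard_union_le _ _)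
    by_cases h0 : polar Q v e = 0
    · exact Or.inr ⟨⟨hv.1, h0⟩, hv.2⟩
    · exact Or.inl ⟨hv, h0⟩
  have h6 : finrank K U' < finrank K U :=
    Submodule.finrank_lt_finrank_of_lt (lt_of_le_of_ne inf_le_left fun h => hwe ((hU' w).1 (h ▸ hw)).2)
  have h7 : Nat.card U' * Nat.card K ≤ Nat.card U := by
    rw [Module.natCard_eq_pow_finrank (K := K) (V := U'), Module.natCard_eq_pow_finrank (K := K) (V := U), ← pow_succ]
    exact Nat.pow_le_pow_right Nat.card_pos h6
  rw [← Module.natCard_eq_pow_finrank]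
  have h8 := Nat.mul_le_mul_right (Nat.card K) h5
  have h9 : {v | v ∈ U ∧ Q v = a}.ncard * Nat.card K ≤ Nat.card U + Nat.card U' := by
    rw [add_mul] at h8
    omega
  have h10 := Nat.mul_le_mul_right (Nat.card K) h9
  rw [pow_two, ← mul_assoc, mul_add, mul_one]
  rw [add_mul] at h10
  omega

end cnt

end Cfsg.Agent.SM.CS
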