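import Cfsg.Agent.SM.CSc.Lin
import Cfsg.Agent.SM.CS.Defs
import Cfsg.Agent.H922.OddPerp

/-!
# SM / CS (S3570), common scheme, part 2 (helper53): rows `C` (`k = 2`) and `F` (`k = 4`)

* `Four q k z` : the facts on the abstract group `T` and the involution `z` (no representation);
* `inv_of_four` : `Hy .o q (3 k) …`, `Soc P ≃* T`, `Four q k z` give `Inv X P`.
-/

set_option autoImplicit false
set_option linter.unusedSectionVars false

namespace Cfsg.Agent.SM.CS

open Cfsg Cfsg.Geo Matrix Subgroup Module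
open Cfsg.Agent.H915.LD (toSoc toSoc_surjective ker_toSoc)
open Cfsg.Agent.SM.Ti (ap ap_mul ap_one ap_inv_ap ap_ap_inv ap_smul ap_add ap_ne)

/-- The abstract facts: `{1, z, w, z w}` is a four-group, `σ` swaps `w`, `z w`, `τ` swaps `z`, `w`, and `w` is a square in
`C(z)`; `z` is the centre of an extraspecial configuration of degree `4 k`; the `Aut`-class of `z` has at most
`q ^ (2 k) (q ^ (2 k) + q ^ k + 1)` elements; an element of order `r` centralises only one element of the class. -/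
structure Four {T : Type*} [Group T] (q k : ℕ) (z : T) : Prop where
  sq : z * z = 1
  four : ∃ w σ τ u : T, w ≠ z ∧ σ * z = z * σ ∧ σ * w = z * (w * σ) ∧ τ * z = w * τ ∧ τ * w = z * τ ∧
    u * z = z * u ∧ u * u = w
  xs : ∃ (a : ℕ) (s t : Fin a → T) (b c : T), 2 ^ (a + 1) = 4 * k ∧ Xs a z s t b c
  cls : {x | ∃ φ : MulAut T, φ z = x}.ncard * (q ^ k - 1) ≤ q ^ (2 * k) * (q ^ (3 * k) - 1)
  ppd : ∃ r, r.Prime ∧ r ≠ 2 ∧ r ∣ q ^ k + 1 ∧ r ∣ Nat.card T ∧
    ∀ (g : T) (φ : MulAut T), orderOf g = r → g * z = z * g → g * φ z = φ z * g → φ z = z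

theorem Four.map {T T' : Type*} [Group T] [Group T'] {q k : ℕ} {z : T} (h : Four q k z) (e : T ≃* T') :
    Four q k (e z) where
  sq := by rw [← map_mul, h.sq, map_one]
  four := by
    obtain ⟨w, σ, τ, u, h0, h1, h2, h3, h4, h5, h6⟩ := h.four
    exact ⟨e w, e σ, e τ, e u, fun h7 => h0 (e.injective h7), by simp only [← map_mul, h1],
      by simp only [← map_mul, h2], by simp only [← map_mul, h3], by simp only [← map_mul, h4],
      by simp only [← map_mul, h5], by simp only [← map_mul, h6]⟩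
  xs := by
    obtain ⟨a, s, t, b, c, h1, h2⟩ := h.xs
    exact ⟨a, _, _, _, _, h1, h2.map e.toMonoidHom⟩
  cls := by
    have h1 : {x | ∃ φ : MulAut T', φ (e z) = x} = e '' {x | ∃ φ : MulAut T, φ z = x} := by
      ext x
      constructor
      · rintro ⟨φ, rfl⟩
        exact ⟨_, ⟨(e.trans φ).trans e.symm, rfl⟩, e.apply_symm_apply _⟩
      · rintro ⟨_, ⟨φ, rfl⟩, rfl⟩
        exact ⟨(e.symm.trans φ).trans e, by simp⟩
    rw [h1, Set.ncard_image_of_injective _ e.injective]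
    exact h.cls
  ppd := by
    obtain ⟨r, h1, h2, h3, h4, h5⟩ := h.ppd
    refine ⟨r, h1, h2, h3, Nat.card_congr e.toEquiv ▸ h4, fun g φ hg h6 h7 => ?_⟩
    have h8 := h5 (e.symm g) ((e.trans φ).trans e.symm) (by rw [e.symm.orderOf_eq, hg])
      (e.injective (by simpa using h6)) (e.injective (by simpa using h7))
    simpa using congrArg e h8

theorem not_dvd_num {q k r : ℕ} (hk : 0 < k) (hq : 0 < q) (hr : r.Prime) (h2 : r ≠ 2) (h : r ∣ q ^ k + 1) :
    ¬ r ∣ q ^ (3 * k) * (q ^ (3 * k) - 1) := by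
  intro h1
  rcases hr.dvd_mul.1 h1 with h3 | h3
  · have h4 : r ∣ q ^ k := dvd_pow (hr.dvd_of_dvd_pow h3) hk.ne'
    exact hr.one_lt.ne' (Nat.dvd_one.1 ((Nat.dvd_add_right h4).1 h))
  · have h4 : r ∣ q ^ (3 * k) + 1 := by
      refine h.trans ?_
      have := Odd.nat_add_dvd_pow_add_pow (q ^ k) 1 (n := 3) (by decide)
      rwa [one_pow, ← pow_mul, mul_comm] at this
    have h5 : 1 ≤ q ^ (3 * k) := Nat.one_le_pow _ _ hq
    have h6 := Nat.dvd_sub h4 h3
    rw [show q ^ (3 * k) + 1 - (q ^ (3 * k) - 1) = 2 by omega] at h6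
    exact h2 ((Nat.prime_dvd_prime_iff_eq hr Nat.prime_two).1 h6)

theorem num_lt {q k a c N sz : ℕ} (hk : 2 ≤ k) (hq : 3 ≤ q) (h1 : a * 2 ≤ N) (h2 : N * q ^ 2 ≤ q ^ (2 * k + 1) * (q + 1))
    (h3 : c * (q ^ k - 1) ≤ q ^ (2 * k) * (q ^ (3 * k) - 1)) (h4 : sz * 2 = q ^ (3 * k) * (q ^ (3 * k) - 1)) :
    a * c < 2 * sz := by
  by_contra h5
  have h6 : q ^ 2 ≤ q ^ k := Nat.pow_le_pow_right (by omega) hk
  have h7 : 1 < q ^ (3 * k) := Nat.one_lt_pow (by omega) (by omega)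
  have e1 : q ^ (3 * k) = q ^ k * q ^ (2 * k) := by rw [← pow_add]; congr 1; omega
  have e2 : q ^ (2 * k + 1) = q ^ k * q ^ k * q := by rw [pow_succ, two_mul, pow_add]
  have h8 : 0 < q ^ (2 * k) * (q ^ (3 * k) - 1) := Nat.mul_pos (by positivity) (by omega)
  obtain ⟨y, hy⟩ : ∃ y, q ^ k = y + 1 := ⟨q ^ k - 1, by
    have : 0 < q ^ k := by positivity
    omega⟩
  have h9 : q ^ k * y ≤ a := by
    refine Nat.le_of_mul_le_mul_right ?_ h8
    rw [hy, Nat.add_sub_cancel] at h3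
    calc q ^ k * y * (q ^ (2 * k) * (q ^ (3 * k) - 1)) = sz * 2 * y := by
          rw [h4]
          generalize q ^ (3 * k) - 1 = M
          rw [e1]
          ring
      _ ≤ a * c * y := Nat.mul_le_mul_right _ (by omega)
      _ = a * (c * y) := mul_assoc _ _ _
      _ ≤ _ := Nat.mul_le_mul_left _ h3
  have h10 : q ^ k * q * (2 * y * q) ≤ q ^ k * q * (q ^ k * (q + 1)) :=
    calc q ^ k * q * (2 * y * q) = q ^ k * y * 2 * q ^ 2 := by ring
      _ ≤ N * q ^ 2 := Nat.mul_le_mul_right _ (by omega)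
      _ ≤ _ := h2
      _ = _ := by rw [e2]; ring
  have h11 := Nat.le_of_mul_le_mul_left h10 (by positivity)
  rw [hy] at h11 h6
  nlinarith

section main

variable {n : ℕ} {K : Type} [Field K] [Fintype K] {Q : (Fin n → K) → K} {X Y P : Subgroup (GL (Fin n) K)} {q k : ℕ}

/-- the sphere of kind `o` in terms of a vector -/
structure Pt (q m : ℕ) (Q : (Fin n → K) → K) (X : Subgroup (GL (Fin n) K)) (v : Fin n → K) : Prop where
  nd : IsNondegenerateQuadraticForm Q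
  card : Fintype.card K = q
  odd : Odd q
  dim : n = 2 * m + 1
  ne : Q v ≠ 0
  mem : ∀ g ∈ omegaGL Q, g ∈ X ↔ ∃ c : K, ap g v = c • v

theorem Sph.pt {m : ℕ} {B : (Fin n → K) → (Fin n → K) → K} {Sg : (Fin n → K) → Prop} {G : Subgroup (GL (Fin n) K)}
    (h : Sph q m .o B Sg G X) : ∃ Q v, G = omegaGL Q ∧ Pt q m Q X v := by
  cases h with
  | o Q hQ hK hq hd W h2 hn hW =>
    have h1 := H922.finrank_perp hQ.polar_bilinear hQ.nondegenerate W
    obtain ⟨v, hv0, hv⟩ := finrank_eq_one_iff'.1 (by omega : finrank K (H922.perp hQ.polar_bilinear W) = 1)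
    have hv0' : (v : Fin n → K) ≠ 0 := fun e => hv0 (Subtype.ext e)
    refine ⟨Q, v, rfl, hQ, hK, hq, by simpa using hd, fun e => ?_, fun g hg => ?_⟩
    · obtain ⟨⟨x, hx, hx0⟩, -⟩ := H922.perp_nondegenerate hQ hn v v.2 hv0'
      obtain ⟨c, hc⟩ := hv ⟨x, hx⟩
      have hc' : x = c • (v : Fin n → K) := (congrArg Subtype.val hc).symm
      rw [hc', hQ.polar_bilinear.smul_left, H922.two_mul_Q hQ.smul, e, mul_zero, mul_zero] at hx0
      exact hx0 rfl
    · have h3 := SetLike.ext_iff.1 (H922.subspaceStabilizer_perp_omega hQ W) g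
      rw [mem_inf, mem_inf, and_iff_left hg, and_iff_left hg] at h3
      rw [h3]
      constructor
      · intro h4
        obtain ⟨c, hc⟩ := hv ⟨_, (H922.mem_subspaceStabilizer.1 h4 v).1 v.2⟩
        exact ⟨c, (congrArg Subtype.val hc).symm⟩
      · rintro ⟨c, hc⟩
        refine H922.mem_subspaceStabilizer_of_forall fun x hx => ?_
        obtain ⟨d, hd⟩ := hv ⟨x, hx⟩
        have hd' : x = d • (v : Fin n → K) := (congrArg Subtype.val hd).symm
        show ap g x ∈ _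
        rw [hd', ap_smul, hc]
        exact Submodule.smul_mem _ _ (Submodule.smul_mem _ _ v.2)

namespace Pt

variable {m : ℕ} {v : Fin n → K} (h : Pt q m Q X v)
include h

theorem three : 3 ≤ q := by
  have h1 := h.odd
  have h2 := Fintype.one_lt_card (α := K)
  rw [h.card] at h2
  obtain ⟨x, hx⟩ := h1
  omega

theorem two : (2 : K) ≠ 0 := by
  refine Ring.two_ne_zero fun e => ?_
  have h1 := FiniteField.even_card_of_char_two e
  have h2 := Nat.odd_iff.1 h.odd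
  rw [h.card] at h1
  omega

theorem iso {g : GL (Fin n) K} (hg : g ∈ omegaGL Q) (x : Fin n → K) : Q (ap g x) = Q x :=
  H925.mem_iso_iff.1 (H922.omegaGL_le Q hg) x

theorem pm {g : GL (Fin n) K} (hg : g ∈ omegaGL Q) (hX : g ∈ X) : ap g v = v ∨ ap g v = -v := by
  obtain ⟨c, hc⟩ := (h.mem g hg).1 hX
  have h1 := h.iso hg v
  rw [hc, h.nd.smul, mul_left_eq_self₀, or_iff_left h.ne, sq_eq_one_iff] at h1
  rcases h1 with rfl | rfl
  · exact Or.inl (by rw [hc, one_smul])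
  · exact Or.inr (by rw [hc, neg_one_smul])

theorem sing {z : GL (Fin n) K} (hz : z ∈ omegaGL Q) (hzz : z * z = 1) (h3 : 3 ≤ finrank K (Es z 1)) :
    ∃ e ∈ Es z 1, ∃ w ∈ Es z 1, Q e = 0 ∧ QuadraticMap.polar Q w e ≠ 0 := by
  obtain ⟨e, he, he0, hQ⟩ := LieClassical.OrthFinite.exists_sing_mem (Q := H925.qf h.nd) _ h3
  obtain ⟨x, hx⟩ := (h.nd.nondegenerate e he0).1
  refine ⟨e, he, x + ap z x, mem_Es_one.2 (by rw [ap_add, ← ap_mul, hzz, ap_one, add_comm]), hQ, ?_⟩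
  have h1 := H922.polar_of_mem (H922.omegaGL_le Q hz) x e
  rw [show (z : Matrix (Fin n) (Fin n) K) *ᵥ e = e from mem_Es_one.1 he] at h1
  rw [h.nd.polar_bilinear.add_left, h1, ← two_mul]
  exact mul_ne_zero h.two hx

end Pt

/-- the dimensions -/
theorem Four.dim {v : Fin n → K} (h : Pt q (3 * k) Q X v) (hk : 2 ≤ k) {z : P} (hz : Four q k z) :
    finrank K (Es (z : GL (Fin n) K) (-1)) = 4 * k ∧ finrank K (Es (z : GL (Fin n) K) 1) = 2 * k + 1 := by
  obtain ⟨a, s, t, b, c, h1, h2⟩ := hz.xs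
  obtain ⟨x, hx⟩ := (h2.map P.subtype).dvd h.two
  have h3 := split_top h.two (s := (z : GL (Fin n) K)) (congrArg Subtype.val hz.sq)
  rw [h1] at hx
  change finrank K (Es (z : GL (Fin n) K) (-1)) = _ at hx
  rw [Fintype.card_fin] at h3
  have h4 := h.dim
  have h5 : x ≠ 0 := by
    rintro rfl
    obtain ⟨w, σ, τ, u, h0, -, -, h6, -⟩ := hz.four
    have h7 : Es (z : GL (Fin n) K) 1 = ⊤ := Submodule.eq_top_of_finrank_eq (by
      rw [finrank_fintype_fun_eq_card, Fintype.card_fin]; omega)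
    have h8 : z = 1 := Subtype.ext (eq_of_ap fun y => (mem_Es_one.1 (h7 ▸ Submodule.mem_top)).trans (ap_one y).symm)
    rw [h8, mul_one, right_eq_mul] at h6
    exact h0 (h6.trans h8.symm)
  have h6 : x < 2 := by
    by_contra h7
    have : 4 * k * 2 ≤ 4 * k * x := Nat.mul_le_mul_left _ (by omega)
    omega
  obtain rfl : x = 1 := by omega
  omega

/-- conjugation by an element of the normaliser -/
def cj (hY : ∀ y ∈ Y, ∀ x ∈ P, y * x * y⁻¹ ∈ P) {y : GL (Fin n) K} (hy : y ∈ Y) : MulAut P where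
  toFun x := ⟨y * x * y⁻¹, hY y hy x x.2⟩
  invFun x := ⟨y⁻¹ * x * y⁻¹⁻¹, hY _ (inv_mem hy) x x.2⟩
  left_inv x := Subtype.ext (by simp [mul_assoc])
  right_inv x := Subtype.ext (by simp [mul_assoc])
  map_mul' a b := Subtype.ext (by simp [mul_assoc])

/-- **the stabiliser centralises `z`** -/
theorem Four.le_cen {v : Fin n → K} (h : Pt q (3 * k) Q X v) (hk : 2 ≤ k) (hP : P ≤ Y) (hYG : Y ≤ omegaGL Q)
    (hY : ∀ y ∈ Y, ∀ x ∈ P, y * x * y⁻¹ ∈ P) (hi : X.relIndex Y * 2 = q ^ (3 * k) * (q ^ (3 * k) - 1)) {z : P}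
    (hz : Four q k z) (hv : ap (z : GL (Fin n) K) v = v) {g : GL (Fin n) K} (hX : g ∈ X) (hg : g ∈ Y) :
    g * z = z * g := by
  classical
  let D : Subgroup (GL (Fin n) K) := centralizer {(z : GL (Fin n) K)} ⊓ Y
  have hD : ∀ d, d ∈ D ↔ d * z = z * d ∧ d ∈ Y := fun d => by
    rw [mem_inf, mem_centralizer_singleton_iff]
  have hd := (hz.dim h hk).2
  obtain ⟨e, he, w, hw, hQ, hwe⟩ := h.sing (hYG (hP z.2)) (congrArg Subtype.val hz.sq) (by omega)
  have h1 := cnt_le (H925.qf h.nd) h.two _ h.ne he hQ hw hwe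
  rw [hd, Nat.card_eq_fintype_card, h.card] at h1
  have hv0 : v ≠ -v := fun e => h.ne (by
    have e' : (2 : K) • v = 0 := by rw [two_smul]; exact eq_neg_iff_add_eq_zero.1 e
    rw [(smul_eq_zero.1 e').resolve_left h.two]
    exact map_zero (H925.qf h.nd))
  have h2 := relIndex_mul_le (β := Bool) X D (fun d b => if b then ap d v else -ap d v)
    (S := {x | x ∈ Es (z : GL (Fin n) K) 1 ∧ H925.qf h.nd x = Q v}) (Set.toFinite _) (fun d hd b => ?_)
    (fun d hd d' hd' b b' e => ?_) fun d hd b b' e => ?_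
  · have h3 := relIndex_le D Y (fun y => if hy : y ∈ Y then cj hY hy z else z)
      (S := {x | ∃ φ : MulAut P, φ z = x}) (Set.toFinite _) (fun y hy => ⟨cj hY hy, by rw [dif_pos hy]⟩)
      fun y hy y' hy' e => ?_
    · have h4 := num_lt hk h.three (by simpa using h2) h1 ((Nat.mul_le_mul_right _ h3).trans hz.cls) hi
      exact ((hD g).1 (j_one inf_le_right h4 ⟨hX, hg⟩)).1
    · rw [dif_pos hy, dif_pos hy'] at e
      have e' : y * z * y⁻¹ = y' * z * y'⁻¹ := congrArg Subtype.val e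
      refine (hD _).2 ⟨?_, mul_mem (inv_mem hy) hy'⟩
      calc y⁻¹ * y' * z = y⁻¹ * (y' * z * y'⁻¹) * y' := by group
        _ = z * (y⁻¹ * y') := by rw [← e']; group
  · have h4 : ap d v ∈ Es (z : GL (Fin n) K) 1 := to_Es ((hD d).1 hd).1 1 v (mem_Es_one.2 hv)
    have h5 := h.iso (hYG hd.2) v
    cases b
    · exact ⟨neg_mem h4, (QuadraticMap.map_neg _ _).trans h5⟩
    · exact ⟨h4, h5⟩
  · refine (h.mem _ (hYG (mul_mem (inv_mem hd.2) hd'.2))).2 ?_
    rw [ap_mul]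
    cases b <;> cases b' <;> simp only [if_true, Bool.false_eq_true, if_false, neg_inj] at e
    · exact ⟨1, by rw [← e, ap_inv_ap, one_smul]⟩
    · exact ⟨-1, by rw [← e, ap_neg, ap_inv_ap, neg_one_smul]⟩
    · exact ⟨-1, by rw [← neg_eq_iff_eq_neg.2 e, ap_neg, ap_inv_ap, neg_one_smul]⟩
    · exact ⟨1, by rw [← e, ap_inv_ap, one_smul]⟩
  · have h4 : ap d v ≠ -ap d v := fun e => hv0 (ap_inj d (by rw [ap_neg]; exact e))
    cases b <;> cases b' <;> simp only [if_true, Bool.false_eq_true, if_false] at e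
    · rfl
    · exact absurd e.symm h4
    · exact absurd e h4
    · rfl

/-- **`C_P(z)` is not contained in the stabiliser** -/
theorem Four.exists_not {v : Fin n → K} (h : Pt q (3 * k) Q X v) (hk : 2 ≤ k) (hPG : P ≤ omegaGL Q) {z : P}
    (hz : Four q k z) (hv : ap (z : GL (Fin n) K) v = v) (hc : ∀ g : P, (g : GL (Fin n) K) ∈ X → g * z = z * g) :
    ∃ c : P, c * z = z * c ∧ (c : GL (Fin n) K) ∉ X := by
  obtain ⟨w, σ, τ, u, h0, h1, h2, h3, h4, h5, h6⟩ := hz.four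
  refine ⟨u, h5, fun hu => h0 ?_⟩
  obtain ⟨d1, d2⟩ := hz.dim h hk
  have hwz : w * z = z * w := by rw [← h6, mul_assoc, h5, ← mul_assoc, h5, mul_assoc]
  have hww : w * w = 1 := by
    have e : w = τ * z * τ⁻¹ := by rw [h3, mul_inv_cancel_right]
    rw [e, conj_mul, hz.sq, mul_one, mul_inv_cancel]
  have e1 := halve h.two (z := (z : GL (Fin n) K)) (s := (w : GL (Fin n) K)) (t := (σ : GL (Fin n) K)) le_rfl
    (to_Es (congrArg Subtype.val hwz) _) (to_Es (congrArg Subtype.val h1) _) (congrArg Subtype.val hww)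
    (congrArg Subtype.val h2)
  have e2 := split h.two (s := (z : GL (Fin n) K)) (U := Es (w : GL (Fin n) K) 1)
    (to_Es (congrArg Subtype.val hwz.symm) _) (congrArg Subtype.val hz.sq)
  have e3 := finrank_Es_eq (g := (τ : GL (Fin n) K)) (s := (z : GL (Fin n) K)) (s' := (w : GL (Fin n) K))
    (congrArg Subtype.val h3) 1
  rw [inf_comm] at e1
  have e4 : finrank K ↥(Es (w : GL (Fin n) K) 1 ⊓ Es (z : GL (Fin n) K) 1) = 1 := by omega
  have hw : ap (w : GL (Fin n) K) v = v := by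
    rw [← h6, coe_mul, ap_mul]
    rcases h.pm (hPG u.2) hu with e | e
    · rw [e, e]
    · rw [e, ap_neg, e, neg_neg]
  have hm : v ∈ Es (w : GL (Fin n) K) 1 ⊓ Es (z : GL (Fin n) K) 1 := ⟨mem_Es_one.2 hw, mem_Es_one.2 hv⟩
  have hm' : ap (τ : GL (Fin n) K) v ∈ Es (w : GL (Fin n) K) 1 ⊓ Es (z : GL (Fin n) K) 1 :=
    ⟨to_Es (congrArg Subtype.val h3) 1 v hm.2, to_Es (congrArg Subtype.val h4) 1 v hm.1⟩
  have hv0 : (⟨v, hm⟩ : ↥(Es (w : GL (Fin n) K) 1 ⊓ Es (z : GL (Fin n) K) 1)) ≠ 0 := fun e => h.ne (by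
    rw [show v = 0 from congrArg Subtype.val e]
    exact map_zero (H925.qf h.nd))
  obtain ⟨c, hc'⟩ := (finrank_eq_one_iff_of_nonzero' _ hv0).1 e4 ⟨_, hm'⟩
  have h7 := hc τ ((h.mem _ (hPG τ.2)).2 ⟨c, (congrArg Subtype.val hc').symm⟩)
  exact mul_right_cancel (h3.symm.trans h7)

/-- **The common scheme for the rows `C` and `F`.** -/
theorem inv_of_four {B : (Fin n → K) → (Fin n → K) → K} {Sg : (Fin n → K) → Prop} {G : Subgroup (GL (Fin n) K)}
    (h : Hy .o q (3 * k) B Sg G X Y P) (hk : 2 ≤ k) {T : Type*} [Group T] (e : H915.LD.Soc P ≃* T) {z : T} (hz : Four q k z) :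
    Inv X P := by
  obtain ⟨Q, v, rfl, hv⟩ := h.sph.pt
  have hPG : P ≤ omegaGL Q := h.core.le.trans h.le
  have hsc : ∀ g : P, (g : GL (Fin n) K) ∈ scalars (Fin n) K → g = 1 := fun g hg => Subtype.ext
    (H922.scalars_inf_omegaGL Q hv.nd (by rw [Fintype.card_fin, hv.dim]; exact odd_two_mul_add_one _) (hPG g.2) hg)
  let ι : P ≃* H915.LD.Soc P := MulEquiv.ofBijective (toSoc P)
    ⟨(injective_iff_map_eq_one _).2 fun g hg => hsc g (by
      have h1 : g ∈ (toSoc P).ker := hg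
      rwa [ker_toSoc] at h1), toSoc_surjective P⟩
  have hι : ∀ g : P, ι g = QuotientGroup.mk g := fun _ => rfl
  obtain ⟨z, hz, hzv⟩ : ∃ z : P, Four q k z ∧ ap (z : GL (Fin n) K) v = v := by
    have h0 := hz.map (ι.trans e).symm
    set z0 := (ι.trans e).symm z
    obtain ⟨x, hx, w, hw, hQ, hwx⟩ := hv.sing (hPG z0.2) (congrArg Subtype.val h0.sq) (by have := (h0.dim hv hk).2; omega)
    have h1 := map_add_smul (H925.qf hv.nd) w x ((Q v - Q w) / QuadraticMap.polar Q w x)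
    have h2 : Q (w + ((Q v - Q w) / QuadraticMap.polar Q w x) • x) = Q v := by
      simp only [H925.coe_qf] at h1
      rw [h1, hQ, div_mul_cancel₀ _ hwx]
      ring
    have h3 := (Es (z0 : GL (Fin n) K) 1).add_mem hw
      (Submodule.smul_mem _ ((Q v - Q w) / QuadraticMap.polar Q w x) hx)
    generalize w + ((Q v - Q w) / QuadraticMap.polar Q w x) • x = v' at h2 h3
    have hne : ∀ x, Q x = Q v → x ≠ 0 := fun x hx e => hv.ne (by rw [← hx, e]; exact map_zero (H925.qf hv.nd))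
    obtain ⟨g, hg, hgv⟩ := H925.exists_trans hv.nd (by have := h.big; omega) (hne v rfl) (hne v' h2) h2.symm
    obtain ⟨y, hy, x, hx, rfl⟩ := h.fac g hg
    have hxG : x ∈ omegaGL Q := (mul_mem_cancel_left (h.le hy)).1 hg
    have h4 : ap y v ∈ Es (z0 : GL (Fin n) K) 1 := by
      change ap (y * x) v = v' at hgv
      rw [ap_mul] at hgv
      rcases hv.pm hxG hx with e | e
      · rw [e] at hgv
        exact hgv ▸ h3
      · rw [e, ap_neg] at hgv
        exact neg_mem_iff.1 (hgv ▸ h3)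
    refine ⟨cj h.core.normal (inv_mem hy) z0, h0.map _, ?_⟩
    show ap (y⁻¹ * (z0 : GL (Fin n) K) * y⁻¹⁻¹) v = v
    rw [inv_inv, ap_mul, ap_mul, mem_Es_one.1 h4, ap_inv_ap]
  have hi : X.relIndex Y * 2 = q ^ (3 * k) * (q ^ (3 * k) - 1) := h.idx
  have hc : ∀ g : P, (g : GL (Fin n) K) ∈ X → g * z = z * g := fun g hg =>
    Subtype.ext (hz.le_cen hv hk h.core.le h.le h.core.normal hi hzv hg (h.core.le g.2))
  refine ⟨z, (hv.mem _ (hPG z.2)).2 ⟨1, by rw [hzv, one_smul]⟩, hz.sq, fun h1 => ?_, hz.exists_not hv hk hPG hzv hc,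
    fun φ hφ => ?_⟩
  · obtain ⟨w, σ, τ, u, h0, -, -, h6, -⟩ := hz.four
    have h8 := hsc z h1
    rw [h8, mul_one, right_eq_mul] at h6
    exact h0 (h6.trans h8.symm)
  · obtain ⟨r, hr, h2, h3, h4, h5⟩ := hz.ppd
    have := Fact.mk hr
    obtain ⟨g, hg⟩ := exists_prime_orderOf_dvd_card' r (dvd_card_inf (X := X) h.core.le h.core.normal hr h4 fun h6 =>
      not_dvd_num (by omega) (by have := hv.three; omega) hr h2 h3 (hi ▸ Dvd.dvd.mul_right h6 _))
    have h6 : ι g.1 ∈ (img X P).map φ.toMonoidHom := by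
      rw [hφ]
      exact ⟨g.1, g.2, rfl⟩
    obtain ⟨_, ⟨g', hg', rfl⟩, h7⟩ := h6
    have h8 : (ι.trans φ).trans ι.symm g' = g.1 := ι.symm_apply_eq.2 h7
    have h9 := h5 g.1 ((ι.trans φ).trans ι.symm) (by rw [orderOf_coe, hg]) (hc _ g.2)
      (by rw [← h8, ← map_mul, ← map_mul, hc _ hg'])
    exact ι.symm_apply_eq.1 h9

end main

end Cfsg.Agent.SM.CS
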